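import Cfsg.Agent.BG.B10
import Cfsg.Prelude.Def_HallClasses

/-! Pronormal overgroups of Sylow subgroups. -/

set_option linter.unusedSectionVars false

namespace CF.SolvStr
open Subgroup CF.BG

variable {G G' : Type*} [Group G] [Group G'] {p : ℕ} {A H K L S T : Subgroup G} {g : G}

/-- `H` is pronormal in `L` -/
def Prn (H L : Subgroup G) : Prop := ∀ g ∈ L, ∃ x ∈ H ⊔ cj g H, cj g H = cj x H

/-- all overgroups of Sylow subgroups of `L` are pronormal in `L` -/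
def PrnS (p : ℕ) (L : Subgroup G) : Prop := ∀ K S, Syl p S L → S ≤ K → K ≤ L → Prn K L

theorem prn_top : Prn H ⊤ ↔ Cfsg.IsPronormal H := ⟨fun h g => h g trivial, fun h g _ => h g⟩

theorem Prn.map (h : Prn H L) (f : G →* G') : Prn (H.map f) (L.map f) := by
  rintro _ ⟨g, hg, rfl⟩
  obtain ⟨x, hx, e⟩ := h g hg
  exact ⟨f x, by rw [← map_cj, ← Subgroup.map_sup]; exact mem_map_of_mem f hx, by rw [← map_cj, e, map_cj]⟩

theorem Prn.of_map {f : G →* G'} (h : Prn (H.map f) (L.map f)) (k : f.ker ≤ H) : Prn H L := by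
  intro g hg
  obtain ⟨_, hx, e⟩ := h _ (mem_map_of_mem f hg)
  rw [← map_cj, ← Subgroup.map_sup] at hx
  obtain ⟨x, hx, rfl⟩ := hx
  have n : ∀ y, f.ker ≤ cj y H := fun y => (cj_of_norm ((normalIn_top.2 f.normal_ker).norm
    (mem_top y))).ge.trans (cj_mono y k)
  rw [← map_cj, ← map_cj] at e
  exact ⟨x, hx, by rw [← comap_map_eq_self (n g), e, comap_map_eq_self (n x)]⟩

variable [Finite G] [Finite G']

theorem PrnS.map {f : G →* G'} (h : PrnS p L) : PrnS p (L.map f) := by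
  intro K S s l k
  obtain ⟨P, hP⟩ := exists_syl p L
  obtain ⟨_, ⟨g, hg, rfl⟩, rfl⟩ := (hP.map f).syl_conj s
  rw [← map_cj] at l
  have := (h (K.comap f ⊓ L) _ (hP.cj_of_mem hg) (le_inf (map_le_iff_le_comap.1 l)
    (hP.cj_of_mem hg).le) inf_le_right).map f
  rwa [le_antisymm (map_le_iff_le_comap.2 inf_le_left) fun x hx => by
    obtain ⟨y, hy, rfl⟩ := k hx
    exact ⟨y, ⟨hx, hy⟩, rfl⟩] at this

theorem PrnS.of_map {f : G →* G'} (h : PrnS p (L.map f)) (k : PiGrp {p} f.ker) (l : f.ker ≤ L) :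
    PrnS p L := fun _ _ s a b => (h _ _ (s.map f) (map_mono a) (map_mono b)).of_map
  ((s.le_of_normal ((normalIn_top.2 f.normal_ker).of_le l le_top) k).trans a)

theorem prnS_top [Fact p.Prime] : PrnS p (⊤ : Subgroup G) ↔
    ∀ K : Subgroup G, (∃ P : Sylow p G, (P : Subgroup G) ≤ K) → Cfsg.IsPronormal K :=
  ⟨fun h K ⟨P, l⟩ => prn_top.1 (h K _ (syl_sylow_top P) l le_top), fun h K S s l _ => by
    obtain ⟨P, rfl⟩ := s.exists_sylow_top
    exact prn_top.2 (h K ⟨P, l⟩)⟩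

theorem prnS_subtype : PrnS p (⊤ : Subgroup L) ↔ PrnS p L :=
  ⟨fun h => map_top_subtype L ▸ h.map, fun h => PrnS.of_map (f := L.subtype)
    ((map_top_subtype L).symm ▸ h) (L.ker_subtype ▸ piGrp_bot _) le_top⟩

theorem prnS_quot {N : Subgroup G} [N.Normal] (k : PiGrp {p} N) :
    PrnS p (⊤ : Subgroup (G ⧸ N)) ↔ PrnS p (⊤ : Subgroup G) := by
  rw [← map_top_of_surjective _ (QuotientGroup.mk'_surjective N)]
  exact ⟨fun h => h.of_map (by rwa [QuotientGroup.ker_mk']) le_top, PrnS.map⟩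

theorem syl_norm [A.Normal] (t : Syl p T A) (s : Syl p S (𝐍 T)) : Syl p S ⊤ := by
  have n := normalIn_top.2 ‹A.Normal›
  obtain ⟨P, hP, l⟩ := exists_syl_le le_top t.pi
  have e := t.eq_of_le (le_inf l t.le) inf_le_right hP.pi.inf_left
  exact hP.of_card_le le_top s.pi (s.card_le (e ▸ (n.inf_left le_top).norm) hP.pi)

theorem PrnS.norm [A.Normal] (h : PrnS p (⊤ : Subgroup G)) (t : Syl p T A) : PrnS p (𝐍 T) :=
  fun K S s l _ g _ => h K S (syl_norm t s) l le_top g trivial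

theorem Prn.of_cj (h : Prn (cj g H) ⊤) : Prn H ⊤ := by
  have := h.map (MulAut.conj g⁻¹).toMonoidHom
  rwa [← cj_def, ← cj_def, cj_inv_cj, cj_top] at this

theorem Prn.norm_map {f : G →* G'} (h : Prn H ⊤) (hf : Function.Surjective f) :
    (𝐍 H).map f = 𝐍 (H.map f) := by
  refine le_antisymm (map_norm le_rfl f) fun y hy => ?_
  obtain ⟨g, rfl⟩ := hf y
  obtain ⟨x, hx, e⟩ := h g trivial
  have := mem_map_of_mem f hx
  rw [Subgroup.map_sup, map_cj, cj_of_norm hy, sup_idem] at this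
  simpa using mul_mem (map_mono (le_norm_self H) this) (mem_map_of_mem f (x := x⁻¹ * g)
    (cj_eq_self.1 (by rw [← cj_cj, e, cj_inv_cj])))

theorem prnS_of [A.Normal] (a : PrnS p A) (t : Syl p T A) (h : PrnS p (𝐍 T))
    (q : PrnS p (⊤ : Subgroup (G ⧸ A))) (n : ∀ K S, Syl p S ⊤ → S ≤ K →
      𝐍 (K.map (QuotientGroup.mk' A)) ≤ (𝐍 K).map (QuotientGroup.mk' A)) :
    PrnS p (⊤ : Subgroup G) := by
  have nA := normalIn_top.2 ‹A.Normal›
  have nA' : ∀ g : G, g ∈ 𝐍 A := fun g => nA.norm (mem_top g)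
  suffices k : ∀ K S, Syl p S ⊤ → S ≤ K → S ⊓ A = T → Prn K ⊤ by
    intro K S s l _
    obtain ⟨g, hg, e⟩ := (s.inf_normal nA).syl_conj t
    exact (k _ _ (s.cj_top g) (cj_mono g l) (by rw [e, cj_inf, cj_of_mem hg])).of_cj
  intro K S s l e g _
  have sT : S ≤ 𝐍 T := e ▸ (nA.inf_left le_top).norm
  have tK : T ≤ K ⊓ A := e ▸ inf_le_inf_right A l
  have sy := t.of_le tK inf_le_right
  have n0 : K ⊓ A ⊴ K := nA.inf_left le_top
  have fr := sy.syl_frattini_sup n0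
  have k : ∀ u ∈ A, ∃ x ∈ K ⊔ cj u K, cj u K = cj x K := fun u hu => by
    obtain ⟨b, hb, eb⟩ := a _ T t tK inf_le_right u hu
    obtain ⟨d, hd, ed⟩ := (eb ▸ sy.cj b : Syl p (cj b T) (cj u (K ⊓ A))).syl_conj (sy.cj u)
    have l1 : K ⊓ A ⊔ cj u (K ⊓ A) ≤ K ⊔ cj u K := sup_le_sup inf_le_left (cj_mono u inf_le_left)
    have m := mul_mem (l1 (mem_sup_right hd)) (l1 hb)
    rw [cj_cj] at ed
    have w1 : (d * b)⁻¹ * u ∈ 𝐍 T := cj_eq_self.1 (by rw [← cj_cj, ed, cj_inv_cj])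
    have w2 : (d * b)⁻¹ * u ∈ 𝐍 (K ⊓ A) :=
      cj_eq_self.1 (by rw [← cj_cj, ← cj_of_mem hd, eb, cj_cj d, cj_inv_cj])
    obtain ⟨c, hc, ec⟩ := h (K ⊓ 𝐍 T) S (s.of_le sT le_top) (le_inf l sT) inf_le_right _ w1
    have c1 : c ∈ 𝐍 (K ⊓ A) := (sup_le (inf_le_left.trans n0.norm)
      (cj_le_of_mem w2 (inf_le_left.trans n0.norm))) hc
    have c2 : c ∈ K ⊔ cj u K := (sup_le (inf_le_left.trans le_sup_left) ((cj_cj _ _ _).ge.trans
      (cj_le_of_mem (inv_mem m) ((cj_mono u inf_le_left).trans le_sup_right)))) hc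
    refine ⟨d * b * c, mul_mem m c2, ?_⟩
    rw [← cj_cj, eq_cj_iff, cj_cj, ← fr, cj_sup, cj_sup, ec, cj_of_norm w2, cj_of_norm c1]
  obtain ⟨_, hy, ey⟩ := q _ _ (map_top_of_surjective _ (QuotientGroup.mk'_surjective A) ▸
    s.map (QuotientGroup.mk' A)) (map_mono l) le_top (QuotientGroup.mk' A g) trivial
  rw [← map_cj, ← Subgroup.map_sup] at hy
  obtain ⟨y, hy, rfl⟩ := hy
  obtain ⟨z, hz, ez⟩ := n K S s l (x := QuotientGroup.mk' A (y⁻¹ * g))
    (cj_eq_self.1 (by rw [map_mul, ← cj_cj, ey, map_inv, cj_inv_cj]))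
  obtain ⟨u, hu, eu⟩ := (QuotientGroup.mk'_eq_mk' A).1 ez
  have e1 : cj (z * u * z⁻¹) K = cj y⁻¹ (cj g K) := by
    rw [← cj_cj, cj_of_norm (inv_mem hz), eu, cj_cj]
  obtain ⟨x, hx, ex⟩ := k _ (conj_mem_of_norm (nA' z) hu)
  rw [e1] at hx ex
  exact ⟨y * x, mul_mem hy ((sup_le le_sup_left (cj_le_of_mem (inv_mem hy) le_sup_right)) hx),
    by rw [← cj_cj, ← ex, cj_cj_inv]⟩

end CF.SolvStr
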