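import Cfsg.Agent.SolvStr.Misc1
import Cfsg.Agent.Small.FieldCoords
import Cfsg.Agent.Solv.FrattiniP
import Cfsg.Prelude.Def_LocalStructure

/-! Irreducible action of a group of prime order; minimal groups that are not closed. -/

namespace CF.SolvStr

open Subgroup Cfsg CF.Solv CF.Transfer
open scoped Pointwise commutatorElement

universe u

variable {G : Type*} [Group G] {G' : Type*} [Group G'] {p : ℕ} {π : Set ℕ}

theorem eq_orderOf_of_field {F : Type*} [Field F] [Fintype F] {p q n : ℕ} [hp : Fact p.Prime]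
    [hq : Fact q.Prime] [CharP F q] (hF : Fintype.card F = q ^ n) {a : F} (ha : orderOf a = p)
    (h : ∀ W : AddSubgroup F, (1 : F) ∈ W → (∀ x ∈ W, a * x ∈ W) → W = ⊤) :
    n = orderOf (q : ZMod p) := by
  have hn : n ≠ 0 := by
    rintro rfl
    exact Fintype.one_lt_card.ne' (hF.trans (pow_zero q))
  have ha0 : a ≠ 0 := by
    rintro rfl
    have := pow_orderOf_eq_one (0 : F)
    rw [ha, zero_pow hp.out.ne_zero] at this
    exact zero_ne_one this
  have h1 : (q : ZMod p) ^ n = 1 := by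
    have h2 : p ∣ q ^ n - 1 := by
      rw [← ha, ← hF, orderOf_dvd_iff_pow_eq_one]
      exact FiniteField.pow_card_sub_one_eq_one a ha0
    rw [← Nat.cast_pow, ← Nat.cast_one, ZMod.natCast_eq_natCast_iff]
    exact ((Nat.modEq_iff_dvd' (Nat.one_le_pow _ _ hq.out.pos)).2 h2).symm
  set e := orderOf (q : ZMod p) with he
  have he0 : 0 < e := (isOfFinOrder_iff_pow_eq_one.2 ⟨n, Nat.pos_of_ne_zero hn, h1⟩).orderOf_pos
  refine le_antisymm ?_ (Nat.le_of_dvd (Nat.pos_of_ne_zero hn) (orderOf_dvd_of_pow_eq_one h1))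
  have h2 : q ^ e ≡ 1 [MOD orderOf a] := by
    rw [ha, ← ZMod.natCast_eq_natCast_iff, Nat.cast_pow, Nat.cast_one]
    exact pow_orderOf_eq_one _
  have h3 : a ^ q ^ e = a := by
    rw [← pow_mod_orderOf, h2, pow_mod_orderOf, pow_one]
  have h4 := h ((iterateFrobenius F q e).toAddMonoidHom.eqLocus (AddMonoidHom.id F))
    (by change (1 : F) ^ _ = 1; exact one_pow _) fun x hx => by
      change (a * x) ^ q ^ e = a * x
      rw [mul_pow, h3, show x ^ q ^ e = x from hx]
  obtain ⟨g, hg⟩ := IsCyclic.exists_ofOrder_eq_natCard (α := Fˣ)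
  have h5 : (g : F) ^ q ^ e = g := (h4 ▸ AddSubgroup.mem_top (g : F) :
    (g : F) ∈ (iterateFrobenius F q e).toAddMonoidHom.eqLocus (AddMonoidHom.id F))
  have h6 : g ^ q ^ e = g ^ 1 := Units.ext (by simpa using h5)
  rw [pow_eq_pow_iff_modEq, hg, Nat.card_units, Nat.card_eq_fintype_card, hF] at h6
  have h7 := Nat.one_lt_pow he0.ne' hq.out.one_lt
  have h8 := Nat.le_of_dvd (by omega) ((Nat.modEq_iff_dvd' h7.le).1 h6.symm)
  exact (Nat.pow_le_pow_iff_right hq.out.one_lt).1 (by omega)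

theorem card_eq_pow_orderOf [Finite G] [hp : Fact p.Prime] {q : ℕ} (hq : q.Prime)
    {A P : Subgroup G} (hA : IsElementaryAbelian q A) (hP : Nat.card P = p)
    (hn : P ≤ normalizer (A : Set G))
    (hirr : ∀ W ≤ A, P ≤ normalizer (W : Set G) → W = ⊥ ∨ W = A)
    (hc : ¬ P ≤ centralizer (A : Set G)) : Nat.card A = q ^ orderOf (q : ZMod p) := by
  have := Fact.mk hq
  have := hA.1
  obtain ⟨n, hcard⟩ := IsPGroup.iff_card.1 (isElementaryAbelian_isPGroup hA)
  obtain ⟨x, hx, hxc⟩ := SetLike.not_le_iff_exists.1 hc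
  have hx1 : x ≠ 1 := fun e => hxc (e ▸ one_mem _)
  have hxo : orderOf x = p := ((Nat.dvd_prime hp.out).1
    (hP ▸ P.orderOf_dvd_natCard hx)).resolve_left (by simpa using hx1)
  have hPx : zpowers x = P := eq_of_le_of_card_ge (zpowers_le.2 hx) (by rw [Nat.card_zpowers, hxo, hP])
  have hA0 : A ≠ ⊥ := fun e => hxc (by
    rintro y hy
    rw [e] at hy
    rw [mem_bot.1 hy]; simp)
  obtain ⟨u, hu, hu1⟩ := (bot_or_exists_ne_one A).resolve_left hA0
  have hn0 : n ≠ 0 := by
    rintro rfl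
    exact hA0 (card_eq_one.1 hcard)
  let _ := Fintype.ofFinite (GaloisField q n)
  have hF : Fintype.card (GaloisField q n) = q ^ n := by
    rw [← Nat.card_eq_fintype_card, GaloisField.card q n hn0]
  obtain ⟨φ, h1, h2, h3, h4, h5, h6⟩ := CF.Small.exists_field_coords A P
    (fun a ha b hb => mul_comm_of_mem (A := zpowers x) (hPx ▸ ha) (hPx ▸ hb)) hn
    (fun W hW h => hirr W hW fun g hg => mem_normalizer_of_cj_le (cj_le_iff_forall.2 (h g hg)))
    hu hu1 (F := GaloisField q n) (hF.trans hcard.symm)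
  obtain ⟨a, ha⟩ := h6 x hx
  have h0 : φ 0 = 1 := by simpa using h4 0 0
  have hneg : ∀ y, φ (-y) = (φ y)⁻¹ := fun y =>
    eq_inv_of_mul_eq_one_left (by rw [← h4, neg_add_cancel, h0])
  rw [hcard, eq_orderOf_of_field (p := p) hF (a := a) (orderOf_eq_prime ?_ ?_) ?_]
  · have : ∀ k : ℕ, x ^ k * φ 1 * (x ^ k)⁻¹ = φ (a ^ k) := by
      intro k
      induction k with
      | zero => simp
      | succ k ih => rw [pow_succ', pow_succ', ← ha, ← ih]; group
    have h7 := this p
    rw [← hxo, pow_orderOf_eq_one, one_mul, inv_one, mul_one] at h7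
    rw [← hxo]
    exact (h1 h7).symm
  · rintro rfl
    refine hxc fun y hy => ?_
    obtain ⟨z, rfl⟩ := h3 y hy
    have := ha z
    rw [one_mul] at this
    calc φ z * x = (x * φ z * x⁻¹) * x := by rw [this]
      _ = _ := by group
  · intro W hW1 hW
    let V : Subgroup G :=
      { carrier := φ '' W
        one_mem' := ⟨0, W.zero_mem, h0⟩
        mul_mem' := by
          rintro _ _ ⟨y, hy, rfl⟩ ⟨z, hz, rfl⟩
          exact ⟨y + z, W.add_mem hy hz, h4 y z⟩
        inv_mem' := by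
          rintro _ ⟨y, hy, rfl⟩
          exact ⟨-y, W.neg_mem hy, hneg y⟩ }
    rcases hirr V (by rintro _ ⟨y, -, rfl⟩; exact h2 y) (by
      rw [← hPx, zpowers_le]
      refine mem_normalizer_of_cj_le (cj_le_iff_forall.2 ?_)
      rintro _ ⟨y, hy, rfl⟩
      exact ⟨a * y, hW y hy, (ha y).symm⟩) with h | h
    · have : u ∈ V := ⟨1, hW1, h5⟩
      exact absurd (mem_bot.1 (h ▸ this)) hu1
    · rw [eq_top_iff]
      intro y _
      obtain ⟨z, hz, e⟩ : φ y ∈ V := h ▸ h2 y
      exact h1 e ▸ hz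

theorem isPClosed_of_isPGroup [Finite G] (h : IsPGroup p G) : IsPClosed p G := fun P => by
  have : (P : Subgroup G) = ⊤ := (P.3 (h.to_subgroup ⊤) le_top).symm
  rw [this]; infer_instance

theorem isPClosed_of_not_dvd [Finite G] [Fact p.Prime] (h : ¬ p ∣ Nat.card G) : IsPClosed p G :=
  fun P => by rw [sylow_eq_bot_of_not_dvd P h]; infer_instance

theorem isPClosed_of_normal [Finite G] [Fact p.Prime] (P : Sylow p G)
    (h : (P : Subgroup G).Normal) : IsPClosed p G := fun Q => by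
  have := P.unique_of_normal h
  rwa [Subsingleton.elim Q P]

theorem min_closed_core [Finite G] [hp : Fact p.Prime] (P : Sylow p G)
    (hPn : ¬ (P : Subgroup G).Normal)
    (h1 : ∀ N : Subgroup G, N.Normal → N ≠ ⊤ → (Nat.card N).Coprime p) {A : Subgroup G}
    (hA : IsMinNormal A) [A.Normal] (hAp : IsPGroup p (G ⧸ A)) (hA' : A ≠ ⊤)
    (h2 : Nat.card P = p → ∀ H : Subgroup G, H ≠ ⊤ → (P : Subgroup G) ≤ H →
      H ≤ normalizer ((P : Subgroup G) : Set G)) :
    ∃ q : ℕ, q.Prime ∧ q ≠ p ∧ Nat.card G = p * q ^ orderOf (q : ZMod p) ∧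
      ∃ A : Subgroup G, A.Normal ∧ Nat.card A = q ^ orderOf (q : ZMod p) ∧
        IsElementaryAbelian q A ∧ ∀ B : Subgroup G, B.Normal → B ≤ A → B = ⊥ ∨ B = A := by
  have hAc := h1 A hA.1 hA'
  have hi : A.index = p := by
    have : Nontrivial (G ⧸ A) := QuotientGroup.nontrivial_iff.2 hA'
    obtain ⟨M, hM, -⟩ := exists_isCoatom_ge (bot_ne_top : (⊥ : Subgroup (G ⧸ A)) ≠ ⊤)
    have := normal_of_isCoatom_of_isPGroup hAp hM
    have h3 := h1 (M.comap (QuotientGroup.mk' A)) inferInstance fun e => hM.1 (by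
      rw [← map_comap_mk' A M, e, map_top_of_surjective _ (QuotientGroup.mk'_surjective A)])
    rw [card_comap_mk'] at h3
    have h4 : M = ⊥ := card_eq_one.1 ((isPGroup_iff_piNum_singleton.1 (hAp.to_subgroup M)).eq_one
      ((piNum_compl_singleton_iff hp.out).2 h3.coprime_mul_right))
    have h5 := index_eq_of_isCoatom_of_isPGroup hAp hM
    rwa [h4, index_bot] at h5
  have hPA : (P : Subgroup G) ⊓ A = ⊥ := inf_eq_bot_of_isPGroup_of_coprime P.isPGroup' hAc
  have hPA' : (P : Subgroup G) ⊔ A = ⊤ :=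
    (isSylowIn_top P).le_sup_of_relIndex le_top (k := 1) (by rw [relIndex_top_right, hi, pow_one])
  have hP : Nat.card P = p := by rw [← index_eq_card_of_inf_sup hPA hPA', hi]
  have hcop : (Nat.card P).Coprime (Nat.card A) := by rw [hP]; exact hAc.symm
  have h3 : ¬ A ≤ normalizer ((P : Subgroup G) : Set G) := fun h =>
    hPn (normal_of_sup_eq_top hPA' le_normalizer h)
  have h4 : ∃ q, q.Prime ∧ IsPGroup q A := by
    by_contra h
    push Not at h
    refine h3 (CF.Coprime.le_of_forall_isSylowOf fun q hq _ => ?_)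
    have := Fact.mk hq
    have := P.isPGroup'.isNilpotent
    obtain ⟨Q, hQ, hn⟩ := CF.Coprime.exists_invariant_isSylowOf P A le_normalizer_of_normal hcop
      (Or.inl inferInstance) (p := q)
    refine ⟨Q, hQ, le_sup_right.trans (h2 hP ((P : Subgroup G) ⊔ Q) (fun e => h q hq ?_)
      le_sup_left)⟩
    have : Q = A := by
      rw [← top_inf_eq A, ← e, sup_inf_assoc_of_le_normalizer' hQ.le hn, hPA, bot_sup_eq]
    exact this ▸ hQ.isPGroup
  obtain ⟨q, hq, hqA⟩ := h4
  have := Fact.mk hq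
  have := hqA.isNilpotent
  obtain ⟨r, hr, hAr, hAr'⟩ := hA.exists_isElementaryAbelian
  have h5 := card_eq_pow_orderOf hr hAr hP le_normalizer_of_normal (fun W hW hn => hA.2.2 W
    (normal_of_sup_eq_top hPA' hn fun a ha => centralizer_le_normalizer _ fun w hw =>
      have := hAr.1
      mul_comm_of_mem (hW hw) ha) hW)
    fun h => h3 ((le_centralizer_iff.1 h).trans (centralizer_le_normalizer _))
  refine ⟨r, hr, ?_, by rw [← h5, ← hi, index_mul_card], A, hA.1, h5, hAr, hA.2.2⟩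
  rintro rfl
  exact hA.2.1 (by simpa using inf_eq_bot_of_isPGroup_of_coprime hAr' hAc)

end CF.SolvStr
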