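import Cfsg.Agent.SolvStr.Kegel

/-!
# Normal subgroups of products of nilpotent and abelian groups
-/

namespace CF.SolvStr

open Subgroup Cfsg CF.Solv
open scoped Pointwise commutatorElement

variable {G : Type*} [Group G] {G' : Type*} [Group G']

theorem normalCore_eq_bot_of_forall_sup {A : Subgroup G} (hA : A ≠ ⊤)
    (h : ∀ N : Subgroup G, N.Normal → N ≠ ⊥ → A ⊔ N = ⊤) : A.normalCore = ⊥ := by
  by_contra hne
  exact hA (by rw [← h _ inferInstance hne, sup_eq_left.mpr (normalCore_le A)])

theorem isCoatom_of_sup_isMinNormal {A N : Subgroup G} (hN : IsMinNormal N) [IsMulCommutative N]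
    (hA : A ≠ ⊤) (h : A ⊔ N = ⊤) : IsCoatom A :=
  hN.isCoatom_of_isComplement' (hN.isComplement'_of_sup_eq_top
    (fun e => hA (by rw [← h, sup_eq_left.mpr e])) (sup_comm A N ▸ h))

theorem map_mk'_eq_top_iff {N A : Subgroup G} [N.Normal] :
    A.map (QuotientGroup.mk' N) = ⊤ ↔ A ⊔ N = ⊤ := by
  rw [← index_eq_one, index_map_mk', index_eq_one]

/-- Kegel: one of two nilpotent factors lies in a proper normal subgroup. -/
theorem exists_normal_of_fac_nilpotent [Finite G] {A B : Subgroup G} [Group.IsNilpotent A]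
    [Group.IsNilpotent B] (h : Fac A B) (hp : A ≠ ⊤ ∨ B ≠ ⊤) :
    ∃ N : Subgroup G, N.Normal ∧ N ≠ ⊤ ∧ (A ≤ N ∨ B ≤ N) := by
  revert A B
  refine group_induction (P := fun G _ _ => ∀ {A B : Subgroup G} [Group.IsNilpotent A]
    [Group.IsNilpotent B], Fac A B → A ≠ ⊤ ∨ B ≠ ⊤ →
      ∃ N : Subgroup G, N.Normal ∧ N ≠ ⊤ ∧ (A ≤ N ∨ B ≤ N)) ?_ G
  intro G _ _ ih A B _ _ h hp
  have := kegel_wielandt h
  have key : ∀ X : Subgroup G, Group.IsNilpotent G → X ≠ ⊤ →
      ∃ N : Subgroup G, N.Normal ∧ N ≠ ⊤ ∧ X ≤ N := fun X hG hX => by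
    obtain ⟨M, hM, hXM⟩ := exists_isCoatom_ge hX
    exact ⟨M, isNilpotent_iff_coatom_normal.mp hG M hM, hM.1, hXM⟩
  by_cases hA : A = ⊤
  · subst hA
    obtain ⟨N, h1, h2, h3⟩ := key B isNilpotent_of_top (hp.resolve_left (by simp))
    exact ⟨N, h1, h2, Or.inr h3⟩
  by_cases hB : B = ⊤
  · subst hB
    obtain ⟨N, h1, h2, h3⟩ := key A isNilpotent_of_top hA
    exact ⟨N, h1, h2, Or.inl h3⟩
  by_cases h1 : ∀ N : Subgroup G, N.Normal → N ≠ ⊥ → A ⊔ N = ⊤ ∧ B ⊔ N = ⊤
  · have : Nontrivial G := by
      by_contra e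
      rw [not_nontrivial_iff_subsingleton] at e
      exact hA (Subsingleton.elim _ _)
    obtain ⟨N, hN⟩ := exists_isMinNormal (G := G)
    have := hN.isMulCommutative
    obtain ⟨g, rfl⟩ := corefree_conj (isCoatom_of_sup_isMinNormal hN hA (h1 N hN.1 hN.2.1).1)
      (isCoatom_of_sup_isMinNormal hN hB (h1 N hN.1 hN.2.1).2)
      (normalCore_eq_bot_of_forall_sup hA fun N a b => (h1 N a b).1)
      (normalCore_eq_bot_of_forall_sup hB fun N a b => (h1 N a b).2)
    exact absurd h.eq_top_of_conj hA
  · simp only [not_forall, not_and_or] at h1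
    obtain ⟨N, hN, hN1, h1⟩ := h1
    have := isNilpotent_map (QuotientGroup.mk' N) A
    have := isNilpotent_map (QuotientGroup.mk' N) B
    obtain ⟨M, hM, hM1, hM2⟩ := ih _ (card_quotient_lt hN1) (h.map (QuotientGroup.mk'_surjective N))
      (by simpa only [Ne, map_mk'_eq_top_iff] using h1)
    refine ⟨M.comap (QuotientGroup.mk' N), inferInstance, fun e => hM1 ?_,
      hM2.imp map_le_iff_le_comap.mp map_le_iff_le_comap.mp⟩
    rw [← map_comap_mk' N M, e, map_top_of_surjective _ (QuotientGroup.mk'_surjective N)]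

theorem normal_of_commutator_le {K : Subgroup G} (h : commutator G ≤ K) : K.Normal :=
  ⟨fun n hn g => by
    have := K.mul_mem (h (commutator_mem_commutator (mem_top g) (mem_top n))) hn
    rwa [commutatorElement_def, inv_mul_cancel_right] at this⟩

theorem le_center_of_sup {A B X : Subgroup G} (h : A ⊔ B = ⊤) (hA : X ≤ centralizer (A : Set G))
    (hB : X ≤ centralizer (B : Set G)) : X ≤ center G := by
  rw [← centralizer_univ, ← coe_top, le_centralizer_iff, ← h]
  exact sup_le (le_centralizer_iff.mp hA) (le_centralizer_iff.mp hB)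

/-- Itô: a product of two abelian groups has a nontrivial normal subgroup inside a factor. -/
theorem exists_normal_le_of_fac_comm [Finite G] [Nontrivial G] {A B : Subgroup G}
    [IsMulCommutative A] [IsMulCommutative B] (h : Fac A B) :
    ∃ N : Subgroup G, N.Normal ∧ N ≠ ⊥ ∧ (N ≤ A ∨ N ≤ B) := by
  revert A B
  refine group_induction (P := fun G _ _ => ∀ [Nontrivial G] {A B : Subgroup G}
    [IsMulCommutative A] [IsMulCommutative B], Fac A B →
      ∃ N : Subgroup G, N.Normal ∧ N ≠ ⊥ ∧ (N ≤ A ∨ N ≤ B)) ?_ G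
  intro G _ _ ih _
  have main : ∀ (A B : Subgroup G) [IsMulCommutative A] [IsMulCommutative B], Fac A B →
      A ⊔ commutator G ≠ ⊤ → ∃ N : Subgroup G, N.Normal ∧ N ≠ ⊥ ∧ (N ≤ A ∨ N ≤ B) := by
    intro A B _ _ h hK
    by_contra hne
    have hA : ∀ N : Subgroup G, N.Normal → N ≤ A → N = ⊥ := fun N h1 h2 =>
      by_contra fun h3 => hne ⟨N, h1, h3, Or.inl h2⟩
    have hB : ∀ N : Subgroup G, N.Normal → N ≤ B → N = ⊥ := fun N h1 h2 =>
      by_contra fun h3 => hne ⟨N, h1, h3, Or.inr h2⟩
    have hG' : commutator G ≤ centralizer (commutator G : Set G) := by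
      have := ito_metabelian h
      rwa [derivedSeries_succ, derivedSeries_one, commutator_eq_bot_iff_le_centralizer] at this
    set K := A ⊔ commutator G with hKdef
    have hAK : A ≤ K := le_sup_left
    have hKn : K.Normal := normal_of_commutator_le le_sup_right
    have hZ : K ⊓ centralizer (K : Set G) = ⊥ := by
      refine hA _ inferInstance fun y hy => ?_
      obtain ⟨a, ha, b, hb, rfl⟩ := h y
      have h1 : zpowers b ≤ center G := by
        refine le_center_of_sup h.sup_eq_top (zpowers_le.mpr ?_)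
          ((zpowers_le.mpr hb).trans (le_centralizer B))
        exact (Subgroup.mul_mem_cancel_left _ (le_centralizer A ha)).mp (centralizer_anti hAK hy.2)
      rw [zpowers_eq_bot.mp (hB _ (normal_of_le_center h1) (zpowers_le.mpr hb)), mul_one]
      exact ha
    have hA1 : A ≠ ⊥ := by
      rintro rfl
      have := h.sup_eq_top
      rw [bot_sup_eq] at this
      exact top_ne_bot (hB ⊤ inferInstance this.ge)
    have : Nontrivial K := (nontrivial_iff_ne_bot K).mpr fun e => hA1 (le_bot_iff.mp (e ▸ hAK))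
    obtain ⟨N, hN, hN1, hN2⟩ := ih K (card_lt_of_ne_top hK) (h.subgroupOf hAK)
    have hN3 := (normal_map_subtype_iff N).mp hN
    have hN4 : N.map K.subtype ≠ ⊥ := by
      rwa [Ne, map_eq_bot_iff_of_injective _ K.subtype_injective]
    have hN5 : N.map K.subtype ≤ A ∨ N.map K.subtype ≤ B :=
      hN2.imp map_le_iff_le_comap.mpr map_le_iff_le_comap.mpr
    have hN6 := map_subtype_le N
    generalize N.map K.subtype = M at hN3 hN4 hN5 hN6
    rcases hN5 with hM | hM
    · have h1 : M ⊓ commutator G = ⊥ := by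
        rw [eq_bot_iff, ← hZ]
        refine le_inf (inf_le_left.trans hN6) (le_centralizer_iff.mp (sup_le ?_ ?_))
        · exact (le_centralizer A).trans (centralizer_anti (inf_le_left.trans hM))
        · exact hG'.trans (centralizer_anti inf_le_right)
      refine hN4 (eq_bot_iff.mpr (hZ ▸ le_inf hN6 ?_))
      rw [← commutator_eq_bot_iff_le_centralizer, eq_bot_iff, ← h1]
      exact le_inf (CF.Coprime.commutator_le_of_le_normalizer hN3) (commutator_mono le_top le_top)
    · exact hN4 (hB M (normal_of_sup_eq_top h.sup_eq_top (hAK.trans hN3)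
        (le_normalizer_of_le_centralizer (hM.trans (le_centralizer B)))) hM)
  intro A B _ _ h
  by_cases hA : A = ⊤
  · exact ⟨⊤, inferInstance, top_ne_bot, Or.inl hA.ge⟩
  have := isNilpotent_of_isMulCommutative A
  have := isNilpotent_of_isMulCommutative B
  have := kegel_wielandt h
  obtain ⟨L, hL, hL1, hL2 | hL2⟩ := exists_normal_of_fac_nilpotent h (Or.inl hA)
  · exact main A B h fun e => hL1 (eq_top_of_sup_commutator
      (eq_top_iff.mpr (e.ge.trans (sup_le_sup_right hL2 _))))
  · obtain ⟨N, h1, h2, h3⟩ := main B A h.symm fun e => hL1 (eq_top_of_sup_commutator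
      (eq_top_iff.mpr (e.ge.trans (sup_le_sup_right hL2 _))))
    exact ⟨N, h1, h2, h3.symm⟩

theorem isCyclic_map (f : G →* G') (A : Subgroup G) [IsCyclic A] : IsCyclic (A.map f) :=
  isCyclic_of_surjective (f.subgroupMap A) (f.subgroupMap_surjective A)

theorem ss_of_fac_cyclic [Finite G] {A B : Subgroup G} [hA : IsCyclic A] [hB : IsCyclic B]
    (h : Fac A B) : IsSupersolvable G := by
  refine ss_of_class (P := fun G _ _ => ∃ A B : Subgroup G, IsCyclic A ∧ IsCyclic B ∧ Fac A B) ?_ G
    ⟨A, B, hA, hB, h⟩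
  rintro G _ _ _ ⟨A, B, hA, hB, h⟩
  have := hA.isMulCommutative
  have := hB.isMulCommutative
  obtain ⟨N, hN, hN1, hN2⟩ := exists_normal_le_of_fac_comm h
  exact ⟨N, hN, hN1, hN2.elim (fun e => isCyclic_of_le e) (fun e => isCyclic_of_le e), _, _, isCyclic_map _ A,
    isCyclic_map _ B, h.map (QuotientGroup.mk'_surjective N)⟩

theorem eq_top_of_sup_commutator_fac [Finite G] {A B : Subgroup G} [IsMulCommutative A]
    [Group.IsNilpotent B] (h : Fac A B) (h1 : A ⊔ ⁅B, B⁆ = ⊤) : A = ⊤ := by
  revert A B
  refine group_induction (P := fun G _ _ => ∀ {A B : Subgroup G} [IsMulCommutative A]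
    [Group.IsNilpotent B], Fac A B → A ⊔ ⁅B, B⁆ = ⊤ → A = ⊤) ?_ G
  intro G _ _ ih A B _ _ h h1
  have := isNilpotent_of_isMulCommutative A
  have := kegel_wielandt h
  by_contra hA
  have h2 : ∀ N : Subgroup G, N.Normal → N ≠ ⊥ → A ⊔ N = ⊤ := fun N _ hN => by
    have := isNilpotent_map (QuotientGroup.mk' N) B
    rw [← map_mk'_eq_top_iff]
    refine ih _ (card_quotient_lt hN) (h.map (QuotientGroup.mk'_surjective N)) ?_
    rw [← map_commutator, ← Subgroup.map_sup, h1,
      map_top_of_surjective _ (QuotientGroup.mk'_surjective N)]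
  have : Nontrivial G := by
    by_contra e
    rw [not_nontrivial_iff_subsingleton] at e
    exact hA (Subsingleton.elim _ _)
  obtain ⟨N, hN⟩ := exists_isMinNormal (G := G)
  have := hN.1
  have := hN.isMulCommutative
  have hcore := normalCore_eq_bot_of_forall_sup hA h2
  have hco := isCoatom_of_sup_isMinNormal hN hA (h2 N hN.1 hN.2.1)
  have hC := corefree_centralizer_eq_of_comm hco hcore N hN.2.1
  have hcompl := corefree_isComplement'_of_comm hco hcore N hN.2.1
  obtain ⟨p, hp, -, hNp⟩ := hN.exists_isElementaryAbelian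
  have := Fact.mk hp
  have hAp : ¬ p ∣ Nat.card A := by
    intro hd
    obtain ⟨P, hP⟩ := CF.Transfer.exists_isSylowIn p A
    have h3 : (P ⊔ N).Normal := normal_of_sup_eq_top (h2 N hN.1 hN.2.1)
      (CF.Coprime.le_normalizer_sup (le_normalizer.trans (normalizer_le_of_sylowIn_nilpotent hP))
        le_normalizer_of_normal) (le_sup_right.trans le_normalizer)
    have h4 : P ≤ N := (le_sup_left.trans ((le_pCore (hP.isPGroup.to_sup_of_normal_right hNp)).trans
      hN.pCore_le_centralizer)).trans hC.le
    exact hP.eq_bot_iff.mp (le_bot_iff.mp ((le_inf h4 hP.le).trans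
      (disjoint_iff.mp hcompl.disjoint).le)) hd
  have hNB : N ≤ B := by
    refine normal_le_of_coprime_index (coprime_card_of_isPGroup hNp
      ((Nat.Prime.coprime_iff_not_dvd hp).mpr fun hd => hAp (hd.trans ?_)).symm)
    have h3 := card_mul_card_inf_of_forall_mul h
    rw [← B.index_mul_card, mul_right_comm] at h3
    exact ⟨_, (Nat.eq_of_mul_eq_mul_right Nat.card_pos h3).symm⟩
  have hBp : IsPGroup p B := by
    refine CF.Transfer.isPGroup_of_forall_coprime fun x hx => Subtype.ext ?_
    refine CF.Transfer.eq_one_of_mem_pGroup_of_coprime hNp (hC.le ?_) (by rwa [orderOf_coe])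
    intro y hy
    obtain ⟨k, hk⟩ := CF.Transfer.orderOf_eq_pow_of_mem hNp hy
    exact commute_of_coprime_orderOf (hNB hy) x.2 (by
      rw [hk, orderOf_coe]; exact (hx.pow_right k).symm)
  have hBN : B ≤ N := le_of_coprime_index (coprime_card_of_isPGroup hBp (by
    rw [hcompl.symm.index_eq_card]
    exact ((Nat.Prime.coprime_iff_not_dvd hp).mpr hAp).symm))
  have := isMulCommutative_of_le hBN
  rw [commutator_self_eq_bot, sup_bot_eq] at h1
  exact hA h1

theorem map_derivedSeries_subtype_succ (H : Subgroup G) (n : ℕ) :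
    (derivedSeries H (n + 1)).map H.subtype =
      ⁅(derivedSeries H n).map H.subtype, (derivedSeries H n).map H.subtype⁆ := by
  rw [derivedSeries_succ, map_commutator]

theorem derivedSeries_add_le {H : Subgroup G} {k : ℕ} (h : derivedSeries G k ≤ H) (n : ℕ) :
    derivedSeries G (k + n) ≤ (derivedSeries H n).map H.subtype := by
  induction n with
  | zero => rwa [derivedSeries_zero, ← MonoidHom.range_eq_map, range_subtype]
  | succ n ih =>
    rw [map_derivedSeries_subtype_succ, ← add_assoc, derivedSeries_succ]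
    exact commutator_mono ih ih

theorem length_lt_of_lt [Finite G] {X Y : Subgroup G} (h : X < Y) :
    (Nat.card X).primeFactorsList.length < (Nat.card Y).primeFactorsList.length := by
  have h1 : X.relIndex Y ≠ 1 := fun e => h.not_ge (relIndex_eq_one.mp e)
  have h2 : X.relIndex Y ≠ 0 := CF.Transfer.relIndex_ne_zero' X Y
  rw [← card_mul_relIndex h.le, (Nat.perm_primeFactorsList_mul Nat.card_pos.ne' h2).length_eq,
    List.length_append, Nat.lt_add_right_iff_pos, List.length_pos_iff,
    Nat.primeFactorsList_ne_nil]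
  omega

theorem derivedSeries_two_le_of_fac {A B : Subgroup G} [IsMulCommutative A] (h : Fac A B)
    (N : Subgroup G) [N.Normal] (hN : ⁅B, B⁆ ≤ N) : derivedSeries G 2 ≤ N := by
  have hs := QuotientGroup.mk'_surjective N
  have : IsMulCommutative (B.map (QuotientGroup.mk' N)) := by
    rwa [isMulCommutative_iff_commutator, ← map_commutator, map_mk'_eq_bot_iff]
  rw [← map_mk'_eq_bot_iff, map_derivedSeries_eq hs]
  exact ito_metabelian (h.map hs)

universe u in
theorem derivedSeries_fac_class_two (n : ℕ) : ∀ (G : Type u) [Group G] [Finite G]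
    (A B : Subgroup G) [IsMulCommutative A], ⁅B, B⁆ ≤ centralizer (B : Set G) → Fac A B →
      (Nat.card (⁅B, B⁆ : Subgroup G)).primeFactorsList.length ≤ n →
        derivedSeries G (2 * (1 + n)) = ⊥ := by
  induction n with
  | zero =>
    intro G _ _ A B _ hB h hn
    rw [Nat.le_zero, List.length_eq_zero_iff, Nat.primeFactorsList_eq_nil] at hn
    have : ⁅B, B⁆ = ⊥ := card_eq_one.mp (hn.resolve_left Nat.card_pos.ne')
    exact le_bot_iff.mp (derivedSeries_two_le_of_fac h ⊥ this.le)
  | succ n ih =>
    intro G _ _ A B _ hB h hn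
    have := isNilpotent_of_commutator_le_centralizer hB
    set H := A ⊔ ⁅B, B⁆ with hH
    have hAH : A ≤ H := le_sup_left
    have h1 : derivedSeries G 2 ≤ H := by
      refine (derivedSeries_two_le_of_fac h _ le_normalClosure).trans
        (normalClosure_le_of_forall_conj fun x => ?_)
      obtain ⟨a, ha, b, hb, rfl⟩ := h x
      rw [← conj_smul_conj_smul, conj_smul_eq_iff.mpr (normalizer_commutator_ge_left B B hb)]
      exact conj_smul_le_of_mem le_sup_right (hAH ha)
    have h2 : (⁅B.subgroupOf H, B.subgroupOf H⁆ : Subgroup H).map H.subtype ≤ ⁅B, B⁆ := by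
      rw [map_commutator]
      exact commutator_mono (map_subgroupOf_le _ _) (map_subgroupOf_le _ _)
    rcases h2.eq_or_lt with h2 | h2
    · have := isNilpotent_subgroupOf B H
      have h3 := eq_top_of_sup_commutator_fac (h.subgroupOf hAH) (by
        rw [← map_subtype_inj, Subgroup.map_sup, h2, map_subgroupOf_eq_of_le hAH,
          ← MonoidHom.range_eq_map, range_subtype])
      rw [subgroupOf_eq_top] at h3
      have h4 : ⁅B, B⁆ ≤ center G := le_center_of_sup h.sup_eq_top
        ((le_sup_right.trans h3).trans (le_centralizer A)) hB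
      have := normal_of_le_center h4
      have h5 : derivedSeries G 3 = ⊥ := by
        rw [derivedSeries_succ, commutator_eq_bot_iff_le_centralizer]
        exact ((derivedSeries_two_le_of_fac h _ le_rfl).trans h4).trans (center_le_centralizer _)
      exact le_bot_iff.mp ((derivedSeries_antitone G (by omega)).trans h5.le)
    · have h3 := ih H (A.subgroupOf H) (B.subgroupOf H) (fun x hx y hy =>
        Subtype.ext (hB (h2.le (mem_map_of_mem _ hx)) y hy)) (h.subgroupOf hAH) (by
          have := length_lt_of_lt h2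
          rw [card_map_of_injective H.subtype_injective] at this
          omega)
      have h4 := derivedSeries_add_le h1 (2 * (1 + n))
      rw [h3, Subgroup.map_bot] at h4
      exact le_bot_iff.mp (le_of_eq_of_le (by congr 1; ring) h4)
where
  map_subgroupOf_le {G : Type u} [Group G] (B H : Subgroup G) :
      (B.subgroupOf H).map H.subtype ≤ B := map_comap_le _ _

end CF.SolvStr
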